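import Groth.Agent.Lib.UnipFix15.Bridge
import Groth.Agent.Lib.TorPts21.ReductiveCartanField
import Groth.Prelude.Def_Par
import Groth.Prelude.Def_AGF

/-!
# Conjugacy of homomorphisms congruent modulo a normal subgroup
-/

set_option autoImplicit false
set_option linter.style.haveILetI false
set_option backward.isDefEq.respectTransparency.types false

universe u

open CategoryTheory MonoidalCategory CartesianMonoidalCategory MonObj AlgebraicGeometry

noncomputable section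

namespace Groth.Agent.UnipFix15

variable {S : Scheme.{u}} {G U H : Over S} [GrpObj G] [GrpObj U] [GrpObj H]

/-- An operation on points stable under twisted conjugation gives an action. -/
theorem exists_twisted_action (u : U ⟶ G) [IsMonHom u] [Mono u] (f₁ f₂ : H ⟶ G) [IsMonHom f₁] [IsMonHom f₂]
    (h : ∀ (T : Over S) (g : T ⟶ H) (v : T ⟶ U), ∃ v', (g ≫ f₂) * (v ≫ u) * (g ≫ f₁)⁻¹ = v' ≫ u) :
    ∃ a : AlgGrp.Action H U, ∀ (T : Over S) (g : T ⟶ H) (v : T ⟶ U),
      (lift g v ≫ a.act) ≫ u = (g ≫ f₂) * (v ≫ u) * (g ≫ f₁)⁻¹ := by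
  obtain ⟨m, hm⟩ := h (H ⊗ U) (fst H U) (snd H U)
  have key : ∀ (T : Over S) (g : T ⟶ H) (v : T ⟶ U),
      (lift g v ≫ m) ≫ u = (g ≫ f₂) * (v ≫ u) * (g ≫ f₁)⁻¹ := fun T g v => by
    rw [Category.assoc, ← hm, MonObj.comp_mul, MonObj.comp_mul, GrpObj.comp_inv, lift_fst_assoc, lift_snd_assoc,
      lift_fst_assoc]
  refine ⟨⟨m, ?_, ?_⟩, key⟩
  · rw [← cancel_mono u]
    have e : (η[H] ▷ U) = lift (toUnit _ ≫ η[H]) (λ_ U).hom := by
      apply CartesianMonoidalCategory.hom_ext <;> simp [leftUnitor_hom]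
      exact congrArg (· ≫ η[H]) (toUnit_unique _ _)
    rw [e, key, ← Hom.one_def, MonObj.one_comp, MonObj.one_comp, inv_one, _root_.one_mul, _root_.mul_one]
  · rw [← cancel_mono u]
    have e1 : (μ[H] ▷ U) = lift (fst (H ⊗ H) U ≫ μ[H]) (snd (H ⊗ H) U) := by
      apply CartesianMonoidalCategory.hom_ext <;> simp
    have e2 : (α_ H H U).hom ≫ (H ◁ m) =
        lift (fst (H ⊗ H) U ≫ fst H H) (lift (fst (H ⊗ H) U ≫ snd H H) (snd (H ⊗ H) U) ≫ m) := by
      apply CartesianMonoidalCategory.hom_ext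
      · simp
      · simp only [Category.assoc, whiskerLeft_snd, lift_snd]
        rw [← Category.assoc]
        congr 1
        apply CartesianMonoidalCategory.hom_ext <;> simp
    rw [e1, ← Category.assoc (α_ H H U).hom, e2, key, key, key]
    rw [show fst (H ⊗ H) U ≫ μ[H] = (fst (H ⊗ H) U ≫ fst H H) * (fst (H ⊗ H) U ≫ snd H H) by
      rw [← MonObj.comp_mul, MonObj.mul_eq_mul]]
    rw [MonObj.mul_comp, MonObj.mul_comp, _root_.mul_inv_rev]
    group

/-- A group acting on itself by translations is a torsor. -/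
theorem isTorsorFor_trivial {k : Type u} [Field k] (V : Over (Spec (CommRingCat.of k))) [GrpObj V] :
    NonAbH1.IsTorsorFor Scheme.fpqcPrecoverage (NonAbH1.trivialAction V) := by
  haveI : Flat (𝟙 (Spec (CommRingCat.of k))) := inferInstance
  haveI : Surjective (𝟙 (Spec (CommRingCat.of k))) := ⟨Function.surjective_id⟩
  haveI : QuasiCompact (𝟙 (Spec (CommRingCat.of k))) := inferInstance
  refine ⟨NonAbH1.isPseudoTorsorSch_trivialAction V, Presieve.singleton (𝟙 _),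
    Scheme.Hom.singleton_mem_fpqcPrecoverage _, ?_⟩
  intro S' g hg
  cases hg
  exact ⟨η[V].left, Over.w η[V]⟩

/-- Homomorphisms congruent modulo `U` are conjugate when twisted actions on `U` have fixed points. -/
theorem exists_conj {k : Type u} [Field k] {G U H : Over (Spec (CommRingCat.of k))} [GrpObj G] [GrpObj U] [GrpObj H]
    (u : U ⟶ G) [IsMonHom u] [Mono u] (hn : AlgGrp.IsNormalHom u) (f₁ f₂ : H ⟶ G) [IsMonHom f₁] [IsMonHom f₂]
    (hagree : ∀ (T : Over (Spec (CommRingCat.of k))) (x : T ⟶ H), ∃ w : T ⟶ U, x ≫ f₂ = (w ≫ u) * (x ≫ f₁))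
    (hfix : ∀ (c : AlgGrp.Action H U),
      (∀ (T : Over (Spec (CommRingCat.of k))) (g : T ⟶ H) (u₁ u₂ : T ⟶ U),
        lift g (u₁ * u₂) ≫ c.act = (lift g u₁ ≫ c.act) * (lift g u₂ ≫ c.act)) →
      ∀ (P : Over (Spec (CommRingCat.of k))) (d : AlgGrp.Action H P) (b : AlgGrp.Action U P),
      NonAbH1.IsTorsorFor Scheme.fpqcPrecoverage b →
      (∀ (T : Over (Spec (CommRingCat.of k))) (g : T ⟶ H) (v : T ⟶ U) (p : T ⟶ P),
        lift g (lift v p ≫ b.act) ≫ d.act = lift (lift g v ≫ c.act) (lift g p ≫ d.act) ≫ b.act) →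
      ∃ x : 𝟙_ (Over (Spec (CommRingCat.of k))) ⟶ P, d.IsFixedPt x) :
    ∃ v : 𝟙_ (Over (Spec (CommRingCat.of k))) ⟶ U, f₂ = AGF.conjBy (v ≫ u) f₁ := by
  obtain ⟨c, hc⟩ := exists_twisted_action u f₂ f₂ fun T g v => hn T (g ≫ f₂) v
  obtain ⟨d, hd⟩ := exists_twisted_action u f₁ f₂ fun T g v => by
    obtain ⟨w, hw⟩ := hagree T g
    obtain ⟨v', hv'⟩ := hn T (g ≫ f₁) v
    refine ⟨w * v', ?_⟩
    rw [hw, MonObj.mul_comp, ← hv']
    group
  have hcmul : ∀ (T : Over (Spec (CommRingCat.of k))) (g : T ⟶ H) (u₁ u₂ : T ⟶ U),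
      lift g (u₁ * u₂) ≫ c.act = (lift g u₁ ≫ c.act) * (lift g u₂ ≫ c.act) := fun T g u₁ u₂ => by
    rw [← cancel_mono u, hc, MonObj.mul_comp, MonObj.mul_comp, hc, hc]
    group
  have hbact : ∀ (T : Over (Spec (CommRingCat.of k))) (x y : T ⟶ U),
      lift x y ≫ (NonAbH1.trivialAction U).act = x * y := fun T x y => Hom.mul_def x y |>.symm
  obtain ⟨x, hx⟩ := hfix c hcmul U d (NonAbH1.trivialAction U) (isTorsorFor_trivial U) fun T g v p => by
    rw [← cancel_mono u, hd, hbact, hbact, MonObj.mul_comp, MonObj.mul_comp, hc, hd]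
    group
  refine ⟨x, ?_⟩
  have h := congrArg (fun q => q ≫ u) (hx H (𝟙 H))
  simp only [hd, Category.id_comp, Category.assoc] at h
  show f₂ = (toUnit H ≫ x ≫ u) * f₁ * (toUnit H ≫ x ≫ u)⁻¹
  exact eq_mul_inv_iff_mul_eq.2 (mul_inv_eq_iff_eq_mul.1 h)

end Groth.Agent.UnipFix15
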