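import Groth.Agent.Lib.UnipFix15.Conj
import Groth.Agent.Lib.UnipFix15.LR
import Groth.Agent.Lib.RadBC15.Main
import Groth.Agent.Lib.RadBC15.Reductive
import Groth.Agent.Lib.TorPts21.RadicalChar
import Groth.Agent.Lib.TorsorSch25.ExactPts
import Groth.Agent.Lib.AbRigid.SmoothGI
import Groth.Agent.Lib.Chevalley25.Component
import Groth.Agent.S15600

/-!
# Complements of the unipotent radical
-/

set_option autoImplicit false
set_option linter.style.haveILetI false
set_option maxSynthPendingDepth 3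
set_option synthInstance.maxHeartbeats 400000
set_option backward.isDefEq.respectTransparency.types false

universe u

open CategoryTheory MonoidalCategory CartesianMonoidalCategory MonObj AlgebraicGeometry
open CoactBr (sp pt)

noncomputable section

namespace Groth.Agent.UnipFix15

variable {k : Type u} [Field k]

/-- The structure of a complement of a normal subgroup. -/
theorem exists_retraction {G U L : Over (Spec (CommRingCat.of k))} [GrpObj G] [GrpObj U] [GrpObj L]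
    (u : U ⟶ G) [IsMonHom u] (hn : AlgGrp.IsNormalHom u) (l : L ⟶ G) [IsMonHom l]
    (h : IsIso ((l ⊗ₘ u) ≫ μ[G])) :
    ∃ q : G ⟶ L, IsMonHom q ∧ l ≫ q = 𝟙 L ∧ u ≫ q = 1 ∧
      ∀ (T : Over (Spec (CommRingCat.of k))) (g : T ⟶ G), ∃ v : T ⟶ U, g = (g ≫ q ≫ l) * (v ≫ u) := by
  haveI := h
  let θ := inv ((l ⊗ₘ u) ≫ μ[G])
  have hm : ∀ {T : Over (Spec (CommRingCat.of k))} (x : T ⟶ L) (v : T ⟶ U),
      lift x v ≫ (l ⊗ₘ u) ≫ μ[G] = (x ≫ l) * (v ≫ u) := fun x v => by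
    rw [lift_map_assoc, Hom.mul_def]
  have hdec : ∀ (T : Over (Spec (CommRingCat.of k))) (g : T ⟶ G),
      (g ≫ θ ≫ fst L U ≫ l) * (g ≫ θ ≫ snd L U ≫ u) = g := fun T g => by
    have e := hm (g ≫ θ ≫ fst L U) (g ≫ θ ≫ snd L U)
    simp only [Category.assoc] at e
    rw [← e, ← Category.assoc g θ (fst L U), ← Category.assoc g θ (snd L U), ← comp_lift, lift_fst_snd,
      Category.comp_id, Category.assoc, IsIso.inv_hom_id, Category.comp_id]
  have huniq : ∀ {T : Over (Spec (CommRingCat.of k))} (x : T ⟶ L) (v : T ⟶ U) (g : T ⟶ G),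
      (x ≫ l) * (v ≫ u) = g → g ≫ θ ≫ fst L U = x := fun x v g hg => by
    rw [← hg, ← hm, Category.assoc, ← Category.assoc ((l ⊗ₘ u) ≫ μ[G]) θ, IsIso.hom_inv_id, Category.id_comp,
      lift_fst]
  have hq : IsMonHom (θ ≫ fst L U) := TorsorSch25.isMonHom_of_points _ fun T x y => by
    obtain ⟨n', hn'⟩ := hn T ((y ≫ θ ≫ fst L U ≫ l)⁻¹) (x ≫ θ ≫ snd L U)
    refine huniq _ (n' * (y ≫ θ ≫ snd L U)) _ ?_
    rw [MonObj.mul_comp _ _ l, MonObj.mul_comp _ _ u, ← hn']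
    simp only [Category.assoc]
    conv_rhs => rw [← hdec T x, ← hdec T y]
    group
  refine ⟨θ ≫ fst L U, hq, huniq (𝟙 L) 1 l ?_, huniq 1 (𝟙 U) u ?_, fun T g => ⟨g ≫ θ ≫ snd L U, ?_⟩⟩
  · rw [Category.id_comp, MonObj.one_comp, _root_.mul_one]
  · rw [Category.id_comp, MonObj.one_comp, _root_.one_mul]
  · simp only [Category.assoc]
    exact (hdec T g).symm

variable [CharZero k]

/-- A complement of the unipotent radical has a linearly reductive Hopf model. -/
theorem exists_model_LR_complement {G U L : Over (Spec (CommRingCat.of k))} [GrpObj G] [IsAffine G.left]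
    [LocallyOfFiniteType G.hom] [GrpObj U] [GrpObj L] {u : U ⟶ G} (hU : Par.IsUnipotentRadical u) (l : L ⟶ G)
    [IsMonHom l] (q : G ⟶ L) [IsMonHom q] (hlq : l ≫ q = 𝟙 L) (huq : u ≫ q = 1) :
    ∃ (A : Type u) (_ : CommRing A) (_ : HopfAlgebra k A) (eL : sp k A ⟶ L),
      IsIso eL ∧ IsMonHom eL ∧ Algebra.FiniteType k A ∧ HopfRep.IsLinearlyReductive k A := by
  haveI : IsAffineHom G.hom := inferInstance
  haveI hls : IsClosedImmersion l.left := by
    haveI : IsSeparated (q.left ≫ L.hom) := by rw [Over.w q]; infer_instance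
    haveI : IsSeparated q.left := IsSeparated.of_comp q.left L.hom
    haveI : IsClosedImmersion (l.left ≫ q.left) := by
      rw [← Over.comp_left, hlq]; exact (inferInstance : IsClosedImmersion (𝟙 L.left))
    exact IsClosedImmersion.of_comp l.left q.left
  haveI : IsAffine L.left := isAffine_of_isAffineHom l.left
  haveI : LocallyOfFiniteType L.hom := by rw [← Over.w l]; infer_instance
  haveI : Smooth G.hom := Cartier.smooth_of_charZero (K := k) G
  haveI : Smooth L.hom := Cartier.smooth_of_charZero (K := k) L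
  haveI : QuasiCompact G.hom := inferInstance
  haveI : QuasiCompact L.hom := inferInstance
  obtain ⟨G₀, _, j, hjm, hjo, hjcl, hjs, -, hjc⟩ := Chevalley25.exists_neutral G
  obtain ⟨L₀, _, jL, hLm, hLo, hLcl, hLs, -, hLc⟩ := Chevalley25.exists_neutral L
  haveI := hjm; haveI := hjo; haveI := hjc; haveI := hLm; haveI := hLo; haveI := hLc
  haveI := hjcl; haveI := hjs; haveI := hLcl; haveI := hLs
  haveI : IsAffine G₀.left := isAffine_of_isAffineHom j.left
  haveI : IsAffine L₀.left := isAffine_of_isAffineHom jL.left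
  haveI : Mono jL := Over.mono_of_mono_left jL
  obtain ⟨l₀, hl₀⟩ := TorPts21.exists_lift_open j (jL ≫ l)
  obtain ⟨q₀, hq₀⟩ := TorPts21.exists_lift_open jL (j ≫ q)
  haveI : IsMonHom q₀ := BorelFix21.isMonHom_of_comp jL q₀ (hq₀ ▸ inferInstance)
  have hsec : l₀ ≫ q₀ = 𝟙 L₀ := by
    rw [← cancel_mono jL, Category.assoc, hq₀, ← Category.assoc, hl₀, Category.assoc, hlq, Category.comp_id,
      Category.id_comp]
  haveI : Surjective q₀.left := ⟨fun y => ⟨l₀.left y, by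
    rw [← Scheme.Hom.comp_apply, ← Over.comp_left, hsec]; rfl⟩⟩
  obtain ⟨A, _, a, ha, -⟩ := RadBC15.exists_radical_bc G₀
  obtain ⟨ham, hac, han, has, haq, haf, -⟩ := Groth.Agent.S15600.result k G G₀ A j a ha
  obtain ⟨f, hf⟩ := hU.2.2.2.2.2.2 A (a ≫ j) hac han has haq haf
  have hkill : a ≫ q₀ = 1 := by
    rw [← cancel_mono jL, MonObj.one_comp, Category.assoc, hq₀, ← Category.assoc, ← hf, Category.assoc, huq,
      MonObj.comp_one]
  exact exists_model_LR_of_open jL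
    (RadBC15.isReductive_of_algClosure (RadBC15.isReductiveOver_of_killed ha q₀ hkill))

/-- Complements of the unipotent radical are conjugate. -/
theorem exists_conj_complements (G : Over (Spec (CommRingCat.of k))) [GrpObj G] [IsAffine G.left]
    [LocallyOfFiniteType G.hom] (U : Over (Spec (CommRingCat.of k))) [GrpObj U] (u : U ⟶ G)
    (hU : Par.IsUnipotentRadical u) (L₁ L₂ : Over (Spec (CommRingCat.of k))) [GrpObj L₁] [GrpObj L₂]
    (l₁ : L₁ ⟶ G) (l₂ : L₂ ⟶ G) [IsMonHom l₁] [IsMonHom l₂]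
    (h₁ : IsIso ((l₁ ⊗ₘ u) ≫ μ[G])) (h₂ : IsIso ((l₂ ⊗ₘ u) ≫ μ[G])) :
    ∃ (v : 𝟙_ (Over (Spec (CommRingCat.of k))) ⟶ U) (e : L₁ ≅ L₂), e.hom ≫ l₂ = AGF.conjBy (v ≫ u) l₁ := by
  obtain ⟨hum, huc, hun, hus, -, huf, -⟩ := id hU
  haveI := hum; haveI := huc; haveI := hus
  obtain ⟨q₁, hq₁m, hlq₁, huq₁, hd₁⟩ := exists_retraction u hun l₁ h₁
  obtain ⟨q₂, hq₂m, hlq₂, huq₂, hd₂⟩ := exists_retraction u hun l₂ h₂
  haveI := hq₁m; haveI := hq₂m
  haveI : IsAffine U.left := isAffine_of_isAffineHom u.left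
  haveI : Mono u := Over.mono_of_mono_left u
  let s₀ : ↥(Spec (CommRingCat.of k)) := IsLocalRing.closedPoint k
  haveI : ConnectedSpace U.left := TorPts21.connectedSpace_of_bc (Red.geomPt s₀) (huf s₀).1
  have hround : ∀ {L L' : Over (Spec (CommRingCat.of k))} [GrpObj L] [GrpObj L'] (l : L ⟶ G) (l' : L' ⟶ G)
      (q : G ⟶ L) (q' : G ⟶ L') [IsMonHom q] [IsMonHom q'], l ≫ q = 𝟙 L → u ≫ q = 1 →
      (∀ (T : Over (Spec (CommRingCat.of k))) (g : T ⟶ G), ∃ v : T ⟶ U, g = (g ≫ q' ≫ l') * (v ≫ u)) →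
      (l ≫ q') ≫ (l' ≫ q) = 𝟙 L := by
    intro L L' _ _ l l' q q' _ _ hlq huq hd'
    obtain ⟨v, hv⟩ := hd' L l
    have e := congrArg (fun x => x ≫ q) hv
    simp only [MonObj.mul_comp, Category.assoc, huq, MonObj.comp_one, _root_.mul_one, hlq] at e
    simpa only [Category.assoc] using e.symm
  let e : L₁ ≅ L₂ := ⟨l₁ ≫ q₂, l₂ ≫ q₁, hround l₁ l₂ q₁ q₂ hlq₁ huq₁ hd₂, hround l₂ l₁ q₂ q₁ hlq₂ huq₂ hd₁⟩
  obtain ⟨A, _, _, eL, _, _, _, hA⟩ := exists_model_LR_complement hU l₁ q₁ hlq₁ huq₁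
  obtain ⟨v, hv⟩ := exists_conj u hun l₁ (l₁ ≫ q₂ ≫ l₂) (fun T x => by
      obtain ⟨v, hv⟩ := hd₂ T (x ≫ l₁)
      obtain ⟨w, hw⟩ := hun T (x ≫ l₁) v⁻¹
      refine ⟨w, ?_⟩
      rw [← hw, GrpObj.inv_comp, ← Category.assoc x l₁, inv_mul_cancel_right, eq_mul_inv_iff_mul_eq]
      exact hv.symm) fun c hc P d b hb hcomp =>
    exists_fixedPt_of_model (fun s => (huf s).2) eL hA c hc P d b hb hcomp
  refine ⟨v, e, ?_⟩
  show (l₁ ≫ q₂) ≫ l₂ = _
  rw [Category.assoc]
  exact hv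

end Groth.Agent.UnipFix15
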